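import Cfsg.Agent.Omega.ML.LemBS
import Cfsg.Agent.Omega.ML.Ex.TIE

/-!
# THEOREM FOUR (#21674, `[A]` of CARD #18791, the case `|A| = 4`): the situation and step (1) (helper735); K-free

* `orbit_prod` : the product over an orbit of odd length;
* `two_pow_mul`, `two_pow_of_fix` : if `B ≤ O₂(C_X(z))`, `h² = 1` and `b ∈ B` fixes `h • z`, then `b * h` is a 2-element;
* `exists_odd` : Baer-Suzuki;
* `FIn T A x y` : `X` faithful on the elementary abelian 2-group `M`, `O₂(X) = 1`, `T` a Sylow 2-subgroup,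
  `C_M(T) = {1, x, y, xy}`, every `P ∈ P(X,T)` fixes `x` or `y`, `N_X(T)` fixes both, `A ⊴ T` elementary abelian of order 4,
  `A ≤ O₂(C_X(x)) ∩ O₂(C_X(y))`, `C_M(a) = C_M(A)` of index 4 for `a ∈ A#`, (NO) at `x` and at `y`;
* **`FIn.sC_le`** : `N_X(C_M(A))` fixes `x` and `y`.
-/

set_option autoImplicit false

namespace Cfsg.Agent.Omega.KL.Four

open Subgroup Cfsg.Agent.ClassTwoFusion.Quad Cfsg.Agent.MinSimple.MinParabolic
open Cfsg.Agent.Omega.ML.BS (mul_comm_of_sq d_hom d_eq_one smul_eq_d)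
open Cfsg.Agent.Omega.NOThree.NoOver (cj)
open Cfsg.Agent.Omega.ML.Ex.TIE (EE EE_sq smul_mem_EE mem_EE)
open Cfsg.Agent.ZN (o2)
open Cfsg.Agent.ZN.ChoiceSit (o2_le isPGroup_o2 le_o2 le_normalizer_o2 o2_cj)

variable {X : Type*} [Group X] {M : Type*} [Group M] [MulDistribMulAction X M]

/-! ### Tools -/

/-- the product over an orbit of odd length -/
theorem orbit_prod [Finite X] [Finite M] (sq : ∀ m : M, m * m = 1) {P T : Subgroup X}
    (hodd : ¬ 2 ∣ T.relIndex P) {x : M} (hx : ∀ t ∈ T, t • x = x) {H : Subgroup M}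
    (hH : ∀ p ∈ P, (p • x) * x ∈ H) : ∃ x₀ : M, (∀ p ∈ P, p • x₀ = x₀) ∧ x₀ * x ∈ H := by
  classical
  let cm : CommGroup M := { (inferInstance : Group M) with mul_comm := mul_comm_of_sq sq }
  let O : Finset M := (Set.toFinite (MulAction.orbit P x)).toFinset
  have hO : ∀ m, m ∈ O ↔ ∃ p ∈ P, p • x = m := by
    intro m
    rw [Set.Finite.mem_toFinset, MulAction.mem_orbit_iff]
    constructor
    · rintro ⟨p, hp⟩
      exact ⟨p, p.2, hp⟩
    · rintro ⟨p, hp, h⟩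
      exact ⟨⟨p, hp⟩, h⟩
  have hcard : O.card = (MulAction.stabilizer P x).index := by
    rw [MulAction.index_stabilizer, Set.ncard_eq_toFinset_card _ (Set.toFinite _)]
  have hoddO : ¬ 2 ∣ O.card := by
    intro h2
    apply hodd
    rw [hcard] at h2
    have h3 : T.subgroupOf P ≤ MulAction.stabilizer P x := by
      intro p hp
      exact hx _ hp
    exact h2.trans (index_dvd_of_le h3)
  refine ⟨∏ m ∈ O, m, fun p hp => ?_, ?_⟩
  · rw [Finset.smul_prod']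
    refine Finset.prod_nbij (fun m => p • m) ?_ ?_ ?_ ?_
    · intro m hm
      obtain ⟨q, hq, rfl⟩ := (hO m).1 hm
      exact (hO _).2 ⟨p * q, P.mul_mem hp hq, mul_smul _ _ _⟩
    · intro m _ m' _ h
      exact MulAction.injective p h
    · intro m hm
      obtain ⟨q, hq, rfl⟩ := (hO m).1 hm
      refine ⟨(p⁻¹ * q) • x, (hO _).2 ⟨p⁻¹ * q, P.mul_mem (P.inv_mem hp) hq, rfl⟩, ?_⟩
      change p • (p⁻¹ * q) • x = q • x
      rw [← mul_smul, mul_inv_cancel_left]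
    · intro m _
      rfl
  · have h1 : (∏ m ∈ O, m) * x = ∏ m ∈ O, (m * x) := by
      rw [Finset.prod_mul_distrib, Finset.prod_const]
      congr 1
      obtain ⟨k, hk⟩ : ∃ k, O.card = 2 * k + 1 := by
        obtain ⟨k, hk⟩ := Nat.odd_iff.2 (by omega : O.card % 2 = 1)
        exact ⟨k, hk⟩
      rw [hk, pow_succ, pow_mul, pow_two, sq x, one_pow, one_mul]
    rw [h1]
    refine H.prod_mem fun m hm => ?_
    obtain ⟨p, hp, rfl⟩ := (hO m).1 hm
    exact hH p hp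

theorem isPGroup_zpowers_of_pow {b : X} {n : ℕ} (hb : b ^ 2 ^ n = 1) : IsPGroup 2 (zpowers b) := by
  rintro ⟨_, k, rfl⟩
  refine ⟨n, Subtype.ext ?_⟩
  change (b ^ k) ^ 2 ^ n = 1
  rw [← zpow_natCast, ← zpow_mul, mul_comm, zpow_mul, zpow_natCast, hb, one_zpow]

/-- the product of an element of `O₂(S)` and a 2-element of `S` is a 2-element -/
theorem two_pow_mul [Finite X] {S : Subgroup X} {u b : X} (hu : u ∈ o2 S) (hb : b ∈ S) {n : ℕ}
    (hb2 : b ^ 2 ^ n = 1) : ∃ n : ℕ, (b * u) ^ 2 ^ n = 1 := by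
  have h1 : zpowers b ≤ normalizer ((o2 S : Subgroup X) : Set X) := by
    rw [zpowers_le]
    exact le_normalizer_o2 S hb
  have h2 : IsPGroup 2 (o2 S ⊔ zpowers b : Subgroup X) :=
    (isPGroup_o2 S).to_sup_of_normal_left' (isPGroup_zpowers_of_pow hb2) h1
  have h3 : b * u ∈ (o2 S ⊔ zpowers b : Subgroup X) :=
    mul_mem (mem_sup_right (mem_zpowers b)) (mem_sup_left hu)
  obtain ⟨m, hm⟩ := h2 ⟨b * u, h3⟩
  exact ⟨m, congrArg Subtype.val hm⟩

theorem stab_smul (h : X) (z : M) :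
    MulAction.stabilizer X (h • z) = cj h (MulAction.stabilizer X z) := by
  ext g
  rw [Cfsg.Agent.Omega.NOThree.NoOver.mem_cj, MulAction.mem_stabilizer_iff, MulAction.mem_stabilizer_iff, mul_smul,
    mul_smul, inv_smul_eq_iff]

theorem conj_mem_o2 {h b : X} {z : M} (hb : b ∈ o2 (MulAction.stabilizer X z)) :
    h * b * h⁻¹ ∈ o2 (MulAction.stabilizer X (h • z)) := by
  have h2 : o2 (cj h (MulAction.stabilizer X z)) = cj h (o2 (MulAction.stabilizer X z)) :=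
    o2_cj h (MulAction.stabilizer X z)
  rw [stab_smul, h2, Cfsg.Agent.Omega.NOThree.NoOver.mem_cj]
  have h1 : h⁻¹ * (h * b * h⁻¹) * h = b := by group
  rwa [h1]

/-- **LEMMA Q** -/
theorem two_pow_of_fix [Finite X] {z : M} {h b : X} (hb : b ∈ o2 (MulAction.stabilizer X z)) (hh : h * h = 1)
    (hf : b • h • z = h • z) : ∃ n : ℕ, (b * h) ^ 2 ^ n = 1 := by
  obtain ⟨n, hn⟩ := isPGroup_o2 (MulAction.stabilizer X z) ⟨b, hb⟩
  have hn' : b ^ 2 ^ n = 1 := congrArg Subtype.val hn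
  have h1 : h * b * h⁻¹ ∈ o2 (MulAction.stabilizer X (h • z)) := conj_mem_o2 hb
  obtain ⟨m, hm⟩ := two_pow_mul h1 (MulAction.mem_stabilizer_iff.2 hf) hn'
  refine ⟨m + 1, ?_⟩
  have h2 : h⁻¹ = h := inv_eq_of_mul_eq_one_right hh
  rw [h2] at hm
  rw [pow_succ', pow_mul, pow_two]
  have h3 : b * h * (b * h) = b * (h * b * h) := by group
  rw [h3]
  exact hm

/-- Baer-Suzuki: an involution outside `O₂(X) = 1` has a conjugate such that the product has odd order `≠ 1`. -/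
theorem exists_odd [Finite X] (h1 : ∀ N : Subgroup X, N.Normal → IsPGroup 2 N → N = ⊥) {a : X} (ha1 : a ≠ 1)
    (ha : a * a = 1) : ∃ k : X, Odd (orderOf (a * (k * a * k⁻¹))) ∧ a * (k * a * k⁻¹) ≠ 1 := by
  have hO : ¬ IsPGroup 2 (normalClosure {a} : Subgroup X) := by
    intro h
    have h2 := h1 _ normalClosure_normal h
    exact ha1 (mem_bot.1 (h2 ▸ subset_normalClosure rfl))
  obtain ⟨g, hg1, hg, hag⟩ := Cfsg.Agent.Involutions.BaerSuzuki.exists_odd_inverted a ha hO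
  have hai : a⁻¹ = a := inv_eq_of_mul_eq_one_right ha
  obtain ⟨n, hn⟩ := hg
  -- `k ^ 2 = g⁻¹`
  have hk : ∃ k : X, k * k = g⁻¹ ∧ a * k * a⁻¹ = k⁻¹ := by
    refine ⟨g ^ n, ?_, ?_⟩
    · rw [← pow_add]
      have h2 : g * g ^ (n + n) = 1 := by
        rw [← pow_succ']
        have h3 : n + n + 1 = orderOf g := by omega
        rw [h3, pow_orderOf_eq_one]
      exact eq_inv_of_mul_eq_one_right h2
    · rw [← conj_pow, hag, inv_pow]
  obtain ⟨k, hk2, hak⟩ := hk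
  have h3 : a * k⁻¹ * a⁻¹ = k := by
    have h4 : a * k⁻¹ * a⁻¹ = (a * k * a⁻¹)⁻¹ := by group
    rw [h4, hak, inv_inv]
  have h5 : a * (k⁻¹ * a * k⁻¹⁻¹) = g⁻¹ := by
    rw [inv_inv, ← hk2]
    calc a * (k⁻¹ * a * k) = (a * k⁻¹ * a) * k := by group
      _ = (a * k⁻¹ * a⁻¹) * k := by rw [hai]
      _ = k * k := by rw [h3]
  refine ⟨k⁻¹, ?_, ?_⟩
  · rw [h5, orderOf_inv]
    exact ⟨n, hn⟩
  · rw [h5]
    exact inv_ne_one.2 hg1

theorem pow_two_ne {u : X} (hu : Odd (orderOf u)) (hu1 : u ≠ 1) (n : ℕ) : u ^ 2 ^ n ≠ 1 := by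
  intro h
  have h1 : orderOf u ∣ 2 ^ n := orderOf_dvd_of_pow_eq_one h
  have h2 : Nat.Coprime (orderOf u) (2 ^ n) := (Nat.Coprime.pow_right n hu.coprime_two_right)
  have h3 : orderOf u = 1 := h2.eq_one_of_dvd h1
  exact hu1 (orderOf_eq_one_iff.1 h3)

end Cfsg.Agent.Omega.KL.Four
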