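import Cfsg.Agent.Omega.KL.Four.Pair

/-!
# THEOREM FOUR (#21674): the end (helper735)

**`FIn.false`** : the situation `FIn` does not occur.
-/

set_option autoImplicit false

namespace Cfsg.Agent.Omega.KL.Four

open Subgroup Cfsg.Agent.ClassTwoFusion.Quad Cfsg.Agent.MinSimple.MinParabolic
open Cfsg.Agent.Omega.ML.BS (mul_comm_of_sq d_hom d_eq_one smul_eq_d)
open Cfsg.Agent.ZN (o2)

variable {X : Type*} [Group X] {M : Type*} [Group M] [MulDistribMulAction X M]

/-! ### Matrices over `F₂` -/

/-- the matrix with columns `m.1`, `m.2` applied to `q` -/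
def ev (m : V × V) (q : V) : V := (q.1 * m.1.1 + q.2 * m.2.1, q.1 * m.1.2 + q.2 * m.2.2)

/-- the identity matrix -/
abbrev I2 : V × V := ((1, 0), (0, 1))

def low (p : V × V) : V × V := (p.1, p.1 + p.2)

def up (m : V × V) (p : V × V) : V × V := (p.1 + ev m p.2, p.2)

def sw (p : V × V) : V × V := (p.2, p.1)

theorem ev_e1 (m : V × V) : ev m (1, 0) = m.1 := by revert m; decide

theorem ev_e2 (m : V × V) : ev m (0, 1) = m.2 := by revert m; decide

theorem ev_zero (m : V × V) : ev m 0 = 0 := by revert m; decide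

theorem ev_e12 (m : V × V) : ev m (1, 1) = m.1 + m.2 := by revert m; decide

/-- `m` is singular -/
def Sing (m : V × V) : Prop := ∃ q, q ≠ 0 ∧ ev m q = 0

instance (m : V × V) : Decidable (Sing m) := by unfold Sing; infer_instance

/-- `m` is singular and has a non-zero fixed vector -/
def Bad (m : V × V) : Prop := Sing m ∧ ∃ w, w ≠ 0 ∧ ev m w = w

instance (m : V × V) : Decidable (Bad m) := by unfold Bad; infer_instance

/-- `m` is an involution -/
def Ivl (m : V × V) : Prop := (∀ q, ev m (ev m q) = q) ∧ m ≠ I2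

instance (m : V × V) : Decidable (Ivl m) := by unfold Ivl; infer_instance

/-- the word -/
def Wd (γ γ' : V × V) : Prop := (∀ p, sw (up γ (sw (up γ' (sw (up γ (p, 0)))))) = (ev γ' p, 0)) ∧ γ' ≠ I2

instance (m m' : V × V) : Decidable (Wd m m') := by unfold Wd; infer_instance

theorem ev_zero' (q : V) : ev (0 : V × V) q = 0 := by revert q; decide

theorem up_I (p : V × V) : up I2 (low (up I2 p)) = sw p := by revert p; decide

set_option maxRecDepth 100000 in
/-- involutions -/
theorem inv_dec : ∀ m : V × V, Ivl m → (∀ p, (up m ∘ low)^[6] p = p) ∧ ∃ p, (up m ∘ low)^[1] p ≠ p ∧ (up m ∘ low)^[3] p ≠ p ∧ (up m ∘ low)^[5] p ≠ p := by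
  decide

/-- the possibilities for a plane -/
def Pl (α β : V × V) : Prop := (β = 0 ∨ α + β = 0 ∨ Bad β) ∨ (Bad (α + β) ∨ β = I2 ∨ α + β = I2)

instance (m m' : V × V) : Decidable (Pl m m') := by unfold Pl; infer_instance

set_option maxRecDepth 100000 in
/-- the planes of `M₂(F₂)` -/
theorem plane_dec' : ∀ α : V × V, (Sing α ∨ Ivl α ∨ α = I2) ∨ ∀ β, Pl α β := by
  decide

theorem plane_dec (α β : V × V) (h1 : ¬ Sing α) (h2 : ¬ Ivl α) (h3 : β ≠ 0) (h4 : α + β ≠ 0) (h5 : ¬ Bad β)
    (h6 : ¬ Bad (α + β)) : α = I2 ∨ β = I2 ∨ α + β = I2 := by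
  rcases plane_dec' α with (h | h | h) | h
  · exact absurd h h1
  · exact absurd h h2
  · exact Or.inl h
  · rcases h β with (h | h | h) | (h | h | h)
    · exact absurd h h3
    · exact absurd h h4
    · exact absurd h h5
    · exact absurd h h6
    · exact Or.inr (Or.inl h)
    · exact Or.inr (Or.inr h)

set_option maxRecDepth 100000 in
theorem word_dec : ∀ β : V × V, β ≠ 0 → I2 + β ≠ 0 → ¬ Bad β → ¬ Bad (I2 + β) →
    (Wd β β ∨ Wd β (I2 + β)) ∨ (Wd (I2 + β) β ∨ Wd (I2 + β) (I2 + β)) := by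
  decide

theorem ev_eq_id : ∀ m : V × V, (∀ p, ev m p = p) → m = I2 := by decide

theorem period3 {m : V × V} {w : V} (hw : ev m w = w) :
    low (up m (w, 0)) = (w, w) ∧ low (up m (w, w)) = (0, w) ∧ low (up m (0, w)) = (w, 0) := by
  have h1 : ∀ w : V, w + w = 0 := vadd_self
  unfold up low
  simp only [hw, ev_zero, add_zero, h1, zero_add, and_self]

/-! ### the coordinates of the operators -/

section

open Classical in
/-- `[ka q, b]` modulo `D` -/
noncomputable def th (A : Subgroup X) (c : X) (x y : M) (b : X) (q : V) : V :=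
  if h : ∃ p, (b • ka c x y q * ka c x y q) * ze x y p ∈ DD M A c then h.choose else 0

/-- the matrix of `b` -/
noncomputable def mt (A : Subgroup X) (c : X) (x y : M) (b : X) : V × V := (th A c x y b (1, 0), th A c x y b (0, 1))

/-- `l` acts as `F` -/
def Act (A : Subgroup X) (c : X) (x y : M) (l : X) (F : V × V → V × V) : Prop :=
  (∀ d ∈ DD M A c, l • d = d) ∧ ∀ p, l • RR c x y p * RR c x y (F p) ∈ DD M A c

end

theorem Act.mul (sq : ∀ m : M, m * m = 1) {A : Subgroup X} {c : X} {x y : M} {l l' : X} {F F' : V × V → V × V}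
    (h : Act A c x y l F) (h' : Act A c x y l' F') : Act A c x y (l * l') (F ∘ F') := by
  refine ⟨fun d hd => by rw [mul_smul, h'.1 d hd, h.1 d hd], fun p => ?_⟩
  have hc := mul_comm_of_sq sq
  set D := DD M A c
  have h1 := h'.2 p
  have h2 := h.2 (F' p)
  set d' := l' • RR c x y p * RR c x y (F' p)
  have h3 : l' • RR c x y p = d' * RR c x y (F' p) := by
    change _ = l' • RR c x y p * RR c x y (F' p) * RR c x y (F' p)
    rw [mul_assoc, sq, mul_one]
  change (l * l') • RR c x y p * RR c x y (F (F' p)) ∈ D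
  rw [mul_smul, h3, smul_mul', h.1 d' h1, mul_assoc]
  exact D.mul_mem h1 h2

theorem Act.one (sq : ∀ m : M, m * m = 1) (A : Subgroup X) (c : X) (x y : M) : Act A c x y 1 id :=
  ⟨fun d _ => one_smul _ d, fun p => by
    rw [one_smul, id, sq]
    exact one_mem _⟩

theorem Act.pow (sq : ∀ m : M, m * m = 1) {A : Subgroup X} {c : X} {x y : M} {l : X} {F : V × V → V × V}
    (h : Act A c x y l F) (n : ℕ) : Act A c x y (l ^ n) F^[n] := by
  induction n with
  | zero => rw [pow_zero]; exact Act.one sq A c x y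
  | succ n ih =>
    rw [pow_succ, Function.iterate_succ]
    exact ih.mul sq h

namespace Pr

variable {T A : Subgroup X} {x y : M} {a k : X} (h : Pr T A x y a k)
include h

local notation "c" => (k * a * k⁻¹)
local notation "D" => (DD M A (k * a * k⁻¹))
local notation "Ac" => (Act A (k * a * k⁻¹) x y)
local notation "m_" => (mt A (k * a * k⁻¹) x y)

theorem com_mem {b : X} (hb : b ∈ A) (m : M) : ∀ b' ∈ A, b' • (b • m * m) = b • m * m := by
  have h1 := (h.A_le_EE hb).2 m
  rw [h.inv'] at h1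
  exact h1

variable [Finite X] [Finite M]

theorem th_spec {b : X} (hb : b ∈ A) (q : V) :
    (b • ka c x y q * ka c x y q) * ze x y (th A c x y b q) ∈ D := by
  have h1 : ∃ p, (b • ka c x y q * ka c x y q) * ze x y p ∈ D := h.cov_C (h.com_mem hb _)
  unfold th
  rw [dif_pos h1]
  exact h1.choose_spec

theorem th_eq {b : X} (hb : b ∈ A) {q p : V} (hp : (b • ka c x y q * ka c x y q) * ze x y p ∈ D) :
    th A c x y b q = p := by
  have h1 := mul_mem (h.th_spec hb q) hp
  have h2 : b • ka c x y q * ka c x y q * ze x y (th A c x y b q) * (b • ka c x y q * ka c x y q * ze x y p) =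
      ze x y (th A c x y b q + p) := by
    rw [ze_add h.sq]
    generalize b • ka c x y q * ka c x y q = u
    generalize ze x y (th A c x y b q) = v
    generalize ze x y p = w
    calc u * v * (u * w) = u * (v * u) * w := by group
      _ = u * (u * v) * w := by rw [h.comm' v u]
      _ = (u * u) * v * w := by group
      _ = v * w := by rw [h.sq, one_mul]
  rw [h2] at h1
  exact eq_of_add (h.ze_D h1)

theorem th_add {b : X} (hb : b ∈ A) (q q' : V) :
    th A c x y b (q + q') = th A c x y b q + th A c x y b q' := by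
  refine h.th_eq hb ?_
  have h1 := mul_mem (h.th_spec hb q) (h.th_spec hb q')
  have h2 : b • ka c x y (q + q') * ka c x y (q + q') =
      (b • ka c x y q * ka c x y q) * (b • ka c x y q' * ka c x y q') := by
    rw [ka_add h.sq]
    exact d_hom h.sq b _ _
  rw [h2, ze_add h.sq]
  generalize b • ka c x y q * ka c x y q = u at *
  generalize b • ka c x y q' * ka c x y q' = v at *
  generalize ze x y (th A c x y b q) = w at *
  generalize ze x y (th A c x y b q') = z at *
  have e : u * v * (w * z) = u * w * (v * z) := by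
    calc u * v * (w * z) = u * (v * w) * z := by group
      _ = u * (w * v) * z := by rw [h.comm' v w]
      _ = _ := by group
  rw [e]
  exact h1

theorem th_mul {b b' : X} (hb : b ∈ A) (hb' : b' ∈ A) (q : V) :
    th A c x y (b * b') q = th A c x y b q + th A c x y b' q := by
  refine h.th_eq (A.mul_mem hb hb') ?_
  have h1 := mul_mem (h.th_spec hb q) (h.th_spec hb' q)
  have h2 : (b * b') • ka c x y q * ka c x y q =
      (b • ka c x y q * ka c x y q) * (b' • ka c x y q * ka c x y q) := by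
    have h3 := h.com_mem hb' (ka c x y q) b hb
    rw [smul_mul', ← mul_smul] at h3
    -- `bb'κ * bκ = b'κ * κ`
    generalize (b * b') • ka c x y q = u at *
    generalize b • ka c x y q = v at *
    generalize b' • ka c x y q = w at *
    generalize ka c x y q = z at *
    have h4 : u = w * z * v := by rw [← h3, mul_assoc, h.sq, mul_one]
    rw [h4, h.comm' (v * z) (w * z)]
    group
  rw [h2, ze_add h.sq]
  generalize b • ka c x y q * ka c x y q = u at *
  generalize b' • ka c x y q * ka c x y q = v at *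
  generalize ze x y (th A c x y b q) = w at *
  generalize ze x y (th A c x y b' q) = z at *
  have e : u * v * (w * z) = u * w * (v * z) := by
    calc u * v * (w * z) = u * (v * w) * z := by group
      _ = u * (w * v) * z := by rw [h.comm' v w]
      _ = _ := by group
  rw [e]
  exact h1

theorem th_ev {b : X} (hb : b ∈ A) (q : V) : th A c x y b q = ev (m_ b) q := by
  have hV : ∀ p : V, p = 0 ∨ p = (1, 0) ∨ p = (0, 1) ∨ p = (1, 1) := by decide
  rcases hV q with rfl | rfl | rfl | rfl
  · rw [ev_zero]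
    have h1 := h.th_add hb 0 0
    rw [add_zero] at h1
    exact (left_eq_add.1 h1)
  · rw [ev_e1]; rfl
  · rw [ev_e2]; rfl
  · rw [ev_e12]
    have h1 := h.th_add hb (1, 0) (0, 1)
    have h2 : ((1, 0) : V) + (0, 1) = (1, 1) := by decide
    rw [h2] at h1
    exact h1

theorem mt_mul {b b' : X} (hb : b ∈ A) (hb' : b' ∈ A) : m_ (b * b') = m_ b + m_ b' :=
  Prod.ext (h.th_mul hb hb' _) (h.th_mul hb hb' _)

omit [Finite X] [Finite M] in
theorem act_c : Ac c low := by
  refine ⟨fun d hd => (mem_DD.1 hd).2, fun p => ?_⟩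
  have h1 : c • RR c x y p = RR c x y (low p) := by
    unfold RR low
    rw [smul_mul', h.c_ze, h.c_ka, ka_add h.sq, mul_assoc]
  rw [h1, h.sq]
  exact one_mem _

theorem act_b {b : X} (hb : b ∈ A) : Ac b (up (m_ b)) := by
  refine ⟨fun d hd => (mem_DD.1 hd).1 b hb, fun p => ?_⟩
  have h1 := h.th_spec hb p.2
  rw [h.th_ev hb] at h1
  have h2 : b • RR c x y p * RR c x y (up (m_ b) p) =
      (b • ka c x y p.2 * ka c x y p.2) * ze x y (ev (m_ b) p.2) := by
    unfold RR up
    rw [smul_mul', h.b_ze hb, ze_add h.sq]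
    generalize ze x y p.1 = u
    generalize b • ka c x y p.2 = v
    generalize ze x y (ev (m_ b) p.2) = w
    generalize ka c x y p.2 = z
    calc u * v * (u * w * z) = u * (v * u) * w * z := by group
      _ = u * (u * v) * w * z := by rw [h.comm' v u]
      _ = (u * u) * v * (w * z) := by group
      _ = v * (z * w) := by rw [h.sq, one_mul, h.comm' w z]
      _ = _ := by group
  rw [h2]
  exact h1

omit [Finite M] in
theorem act_inj {F : V × V → V × V} (hF : Ac 1 F) (p : V × V) : F p = p := by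
  have h1 := hF.2 p
  rw [one_smul] at h1
  exact (h.RR_inj h1).symm

omit h [Finite X] [Finite M] in
theorem smul_ze {l : X} (hx : l • x = x) (hy : l • y = y) (p : V) : l • ze x y p = ze x y p := by
  rcases ze_cases x y p with rfl | hp | hp | hp
  · rw [ze_zero, smul_one]
  · rw [hp, hx]
  · rw [hp, hy]
  · rw [hp, smul_mul', hx, hy]

/-- **(3)** -/
theorem act_C {l : X} {F : V × V → V × V} (hF : Ac l F) {f : V → V} (hf : ∀ p, F (p, 0) = (f p, 0)) (p : V) :
    f p = p := by
  have h0 : ∀ p : V, RR c x y (p, 0) = ze x y p := by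
    intro p
    unfold RR
    rw [ka_zero h.sq, mul_one]
  have h1 : ∀ p, l • ze x y p * ze x y (f p) ∈ D := by
    intro p
    have h2 := hF.2 (p, 0)
    rw [hf, h0, h0] at h2
    exact h2
  have h3 : l ∈ sC X (cv M (A : Set X)) := by
    refine mem_sC_of_le fun m hm => ?_
    obtain ⟨q, hq⟩ := h.cov_C hm
    have h4 : l • (m * ze x y q) = m * ze x y q := hF.1 _ hq
    rw [smul_mul'] at h4
    have h5 : l • m = (m * ze x y q) * (l • ze x y q) := by
      rw [← h4, mul_assoc, h.sq, mul_one]
    have h6 : l • ze x y q ∈ cv M (A : Set X) := by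
      have h7 := mul_mem (h1 q).1 (h.zeC (f q))
      rwa [mul_assoc, h.sq, mul_one] at h7
    rw [h5]
    exact mul_mem hq.1 h6
  obtain ⟨hx, hy⟩ := h.sC_fix h3
  have h8 := h1 p
  rw [smul_ze hx hy, ← ze_add h.sq] at h8
  exact (eq_of_add (h.ze_D h8)).symm

/-- **(5)** -/
theorem mt_ne_zero {b : X} (hb : b ∈ A) (hb1 : b ≠ 1) : m_ b ≠ 0 := by
  intro h0
  have hka : ∀ q, b • ka c x y q * ka c x y q ∈ D := by
    intro q
    have h1 := h.th_spec hb q
    rw [h.th_ev hb, h0] at h1
    rw [ev_zero', ze_zero, mul_one] at h1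
    exact h1
  -- `[M, b] ≤ D`
  have hM : ∀ m : M, b • m * m ∈ D := by
    intro m
    obtain ⟨p, hp⟩ := h.cov_M m
    have h1 : b • (m * RR c x y p) = m * RR c x y p := (mem_DD.1 hp).1 b hb
    rw [smul_mul'] at h1
    have h2 : b • RR c x y p * RR c x y p ∈ D := by
      unfold RR
      rw [smul_mul', h.b_ze hb]
      have e : ze x y p.1 * b • ka c x y p.2 * (ze x y p.1 * ka c x y p.2) = b • ka c x y p.2 * ka c x y p.2 := by
        generalize ze x y p.1 = u
        generalize b • ka c x y p.2 = v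
        generalize ka c x y p.2 = w
        calc u * v * (u * w) = u * (v * u) * w := by group
          _ = u * (u * v) * w := by rw [h.comm' v u]
          _ = (u * u) * v * w := by group
          _ = v * w := by rw [h.sq, one_mul]
      rw [e]
      exact hka _
    have h3 : b • m * m = b • RR c x y p * RR c x y p := by
      rw [h.comm' (b • m), h.comm' m] at h1
      rw [h.comm' (b • m) m]
      have h4 := swap_eq h.sq (u := RR c x y p) (w := m) (u' := b • RR c x y p) (w' := b • m) h1
      rw [h.comm' m, h4]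
    rw [h3]
    exact h2
  obtain ⟨b', hb'⟩ : ∃ b', b' = c * b * c := ⟨_, rfl⟩
  have hcD : ∀ d ∈ D, c • d = d := fun d hd => (mem_DD.1 hd).2
  have hbD : ∀ d ∈ D, b • d = d := fun d hd => (mem_DD.1 hd).1 b hb
  have hM' : ∀ m : M, b' • m * m ∈ D := by
    intro m
    have h1 := hM (c • m)
    have h2 := hcD _ h1
    rw [smul_mul', ← mul_smul c c, h.cc, one_smul, ← mul_smul, ← mul_smul] at h2
    have h3 : b' • m * m = b • c • m * c • m := by
      rw [hb']
      exact h2
    rw [h3]
    exact h1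
  have hb'D : ∀ d ∈ D, b' • d = d := fun d hd => by
    rw [hb', mul_smul, mul_smul, hcD d hd, hbD d hd, hcD d hd]
  have hcomm : b' * b = b * b' := by
    have h1 : (b' * b)⁻¹ * (b * b') = 1 := by
      refine h.faith _ fun m => ?_
      rw [mul_smul, inv_smul_eq_iff, mul_smul, mul_smul]
      have h2 := hb'D _ (hM m)
      have h3 := hbD _ (hM' m)
      rw [smul_mul'] at h2 h3
      -- `b'bm * b'm = bm * m`, `bb'm * bm = b'm * m`
      generalize b' • b • m = u at *
      generalize b • b' • m = v at *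
      generalize b • m = w at *
      generalize b' • m = z at *
      have h4 : u = w * m * z := by rw [← h2, mul_assoc, h.sq, mul_one]
      have h5 : v = z * m * w := by rw [← h3, mul_assoc, h.sq, mul_one]
      rw [h4, h5]
      calc z * m * w = z * (m * w) := by group
        _ = (m * w) * z := h.comm' _ _
        _ = w * m * z := by rw [h.comm' m w]
    have h6 := inv_mul_eq_one.1 h1
    exact h6
  have h7 : b' ∈ sC X (cv M (A : Set X)) := by
    rw [← h.fix b hb hb1]
    intro m
    rw [mem_cv_singleton, mem_cv_singleton, ← mul_smul, ← hcomm, mul_smul]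
    exact ⟨fun h8 => by rw [h8], fun h8 => MulAction.injective b' h8⟩
  obtain ⟨hx, -⟩ := h.sC_fix h7
  have h9 : b • (c • x) = c • x := by
    rw [hb', mul_smul, mul_smul] at hx
    have h10 : c • (c • (b • (c • x))) = c • x := by rw [hx]
    rwa [← mul_smul c c, h.cc, one_smul] at h10
  have h11 : c • x ∈ cv M (A : Set X) := by
    rw [← h.fix b hb hb1]
    exact mem_cv_singleton.2 h9
  have h12 : ((1, 0) : V) = 0 := by
    refine h.ka_C ?_
    have h13 : ka c x y (1, 0) ∈ cv M (A : Set X) := by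
      unfold ka
      rw [ze_x]
      exact mul_mem h11 h.xC
    exact h13
  exact absurd h12 (by decide)

theorem not_bad {b : X} (hb : b ∈ A) : ¬ Bad (m_ b) := by
  rintro ⟨⟨q, hq, hq0⟩, w, hw, hw1⟩
  have h1 : b • ka c x y q * ka c x y q ∈ D := by
    have h2 := h.th_spec hb q
    rw [h.th_ev hb, hq0, ze_zero, mul_one] at h2
    exact h2
  obtain ⟨n, hn⟩ := h.two_of_sing hb hq h1
  have h2 : Ac (c * b) (low ∘ up (m_ b)) := h.act_c.mul h.sq (h.act_b hb)
  have h3 := h2.pow h.sq (2 ^ n)
  rw [hn] at h3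
  have h4 := h.act_inj h3 (w, 0)
  obtain ⟨p1, p2, p3⟩ := period3 hw1
  have h5 : Function.IsPeriodicPt (low ∘ up (m_ b)) 3 (w, 0) := by
    change low (up (m_ b) (low (up (m_ b) (low (up (m_ b) (w, 0)))))) = (w, 0)
    rw [p1, p2, p3]
  rw [← h5.iterate_mod_apply] at h4
  have h6 : 2 ^ n % 3 = 1 ∨ 2 ^ n % 3 = 2 := by
    have h7 : ¬ 3 ∣ 2 ^ n := fun h8 => by
      have := Nat.prime_three.dvd_of_dvd_pow h8
      omega
    omega
  rcases h6 with h6 | h6
  · rw [h6] at h4
    change low (up (m_ b) (w, 0)) = (w, 0) at h4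
    rw [p1] at h4
    exact hw (congrArg Prod.snd h4)
  · rw [h6] at h4
    change low (up (m_ b) (low (up (m_ b) (w, 0)))) = (w, 0) at h4
    rw [p1, p2] at h4
    exact hw (congrArg Prod.snd h4)

theorem not_sing : ¬ Sing (m_ a) := by
  rintro ⟨q, hq, hq0⟩
  have h1 : a • ka c x y q * ka c x y q ∈ D := by
    have h2 := h.th_spec h.ha q
    rw [h.th_ev h.ha, hq0, ze_zero, mul_one] at h2
    exact h2
  obtain ⟨n, hn⟩ := h.two_of_sing h.ha hq h1
  exact h.not_pow' n hn

theorem not_inv : ¬ Ivl (m_ a) := by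
  intro h1
  obtain ⟨h6, p, q1, q3, q5⟩ := inv_dec _ h1
  have h3 : Ac (a * c) (up (m_ a) ∘ low) := (h.act_b h.ha).mul h.sq h.act_c
  have h4 := h3.pow h.sq (orderOf (a * c))
  rw [pow_orderOf_eq_one] at h4
  have h5 := h.act_inj h4 p
  have h7 : Function.IsPeriodicPt (up (m_ a) ∘ low) 6 p := h6 p
  rw [← h7.iterate_mod_apply] at h5
  obtain ⟨n, hn⟩ := h.odd
  have h8 : orderOf (a * c) % 6 = 1 ∨ orderOf (a * c) % 6 = 3 ∨ orderOf (a * c) % 6 = 5 := by omega
  rcases h8 with h8 | h8 | h8
  · rw [h8] at h5; exact q1 h5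
  · rw [h8] at h5; exact q3 h5
  · rw [h8] at h5; exact q5 h5

omit [Finite M] in
theorem exists_other {b : X} (hb : b ∈ A) : ∃ b' ∈ A, b' ≠ 1 ∧ b' ≠ b := by
  by_contra hcon
  push Not at hcon
  have h1 : A ≤ zpowers b := by
    intro u hu
    rcases eq_or_ne u 1 with rfl | h2
    · exact one_mem _
    · rw [hcon u hu h2]
      exact mem_zpowers b
  have h2 := card_le_of_le h1
  rw [h.four, Nat.card_zpowers] at h2
  have h3 : orderOf b ≤ 2 := orderOf_le_of_pow_eq_one (by norm_num) (by rw [pow_two]; exact h.el b hb)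
  omega

/-- **(6)** -/
theorem mt_ne_one {b : X} (hb : b ∈ A) : m_ b ≠ I2 := by
  intro hI
  have hb1 : b ≠ 1 := by
    rintro rfl
    have h1 := h.mt_mul A.one_mem A.one_mem
    rw [mul_one] at h1
    have h2 := left_eq_add.1 h1
    rw [h2] at hI
    exact absurd hI (by decide)
  obtain ⟨b₁, hb₁, hb₁1, hne⟩ := h.exists_other hb
  have hbb : b * b₁ ≠ 1 := by
    intro h1
    have h2 := eq_inv_of_mul_eq_one_right h1
    rw [h.inv_b hb] at h2
    exact hne h2
  have hm : m_ (b * b₁) = I2 + m_ b₁ := by rw [h.mt_mul hb hb₁, hI]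
  have n1 := h.mt_ne_zero hb₁ hb₁1
  have n2 := h.mt_ne_zero (A.mul_mem hb hb₁) hbb
  have n3 := h.not_bad hb₁
  have n4 := h.not_bad (A.mul_mem hb hb₁)
  rw [hm] at n2 n4
  obtain ⟨u, u', hu, hu', hw, hne'⟩ : ∃ u u', u ∈ A ∧ u' ∈ A ∧ Wd (m_ u) (m_ u') := by
    have hbb₁ := A.mul_mem hb hb₁
    rcases word_dec _ n1 n2 n3 n4 with (h1 | h1) | (h1 | h1)
    · exact ⟨b₁, b₁, hb₁, hb₁, h1⟩
    · exact ⟨b₁, b * b₁, hb₁, hbb₁, by rw [hm]; exact h1⟩
    · exact ⟨b * b₁, b₁, hbb₁, hb₁, by rw [hm]; exact h1⟩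
    · exact ⟨b * b₁, b * b₁, hbb₁, hbb₁, by rw [hm]; exact h1⟩
  have hs : Ac (b * c * b) sw := by
    have h1 := ((h.act_b hb).mul h.sq h.act_c).mul h.sq (h.act_b hb)
    rw [hI] at h1
    have h2 : (up I2 ∘ low) ∘ up I2 = sw := funext fun p => up_I p
    rwa [h2] at h1
  have hl := hs.mul h.sq ((h.act_b hu).mul h.sq (hs.mul h.sq ((h.act_b hu').mul h.sq (hs.mul h.sq (h.act_b hu)))))
  exact hne' (ev_eq_id _ (h.act_C hl hw))

theorem false : False := by
  obtain ⟨b, hb, hb1, hne⟩ := h.exists_other h.ha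
  have hab : a * b ≠ 1 := by
    intro h1
    have h2 := eq_inv_of_mul_eq_one_right h1
    rw [h.inv_b h.ha] at h2
    exact hne h2
  have hm := h.mt_mul h.ha hb
  have n1 := h.mt_ne_zero hb hb1
  have n2 := h.mt_ne_zero (A.mul_mem h.ha hb) hab
  have n3 := h.not_bad hb
  have n4 := h.not_bad (A.mul_mem h.ha hb)
  have n5 := h.mt_ne_one (A.mul_mem h.ha hb)
  rw [hm] at n2 n4 n5
  rcases plane_dec _ _ h.not_sing h.not_inv n1 n2 n3 n4 with h1 | h1 | h1
  · exact h.mt_ne_one h.ha h1
  · exact h.mt_ne_one hb h1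
  · exact n5 h1

end Pr

/-- **THEOREM FOUR** -/
theorem FIn.false [Finite X] [Finite M] {T A : Subgroup X} {x y : M} (h : FIn T A x y) : False := by
  obtain ⟨a, ha, ha1⟩ := h.exists_ne
  obtain ⟨k, hodd, hne⟩ := exists_odd h.o2X ha1 (h.el a ha)
  exact Pr.false (k := k) { h with ha := ha, ha1 := ha1, odd := hodd, ne := hne }

end Cfsg.Agent.Omega.KL.Four
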