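import Cfsg.Agent.Omega.KL.Four.Par

/-!
# THEOREM FOUR (#21674): steps (2)-(5): the pair `a, c = a^k` and the coordinates (helper735)

* `Pr h a c` : `a ∈ A#`, `c = k a k⁻¹`, `a * c` of odd order `≠ 1`;
* `ka p := [ze p, c]`; `R p q := ze p * ka q`: every element of `M` is `R p q * d`, `d ∈ D = C ∩ C_M(c)`, `p`, `q` unique;
* `th b : V → V` : `[ka q, b] ∈ ze (th b q) D`; additive in `q` and in `b`;
* `Act l F` : `l` acts on the coordinates as `F : V × V → V × V`.
-/

set_option autoImplicit false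

namespace Cfsg.Agent.Omega.KL.Four

open Subgroup Cfsg.Agent.ClassTwoFusion.Quad Cfsg.Agent.MinSimple.MinParabolic
open Cfsg.Agent.Omega.ML.BS (mul_comm_of_sq d_hom d_eq_one smul_eq_d)
open Cfsg.Agent.ZN (o2)
open Cfsg.Agent.ZN.ChoiceSit (o2_le isPGroup_o2 le_o2 le_normalizer_o2)

variable {X : Type*} [Group X] {M : Type*} [Group M] [MulDistribMulAction X M]

/-- **the pair** -/
structure Pr (T A : Subgroup X) (x y : M) (a k : X) : Prop extends FIn T A x y where
  ha : a ∈ A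
  ha1 : a ≠ 1
  odd : Odd (orderOf (a * (k * a * k⁻¹)))
  ne : a * (k * a * k⁻¹) ≠ 1

namespace Pr

variable {T A : Subgroup X} {x y : M} {a k : X} (h : Pr T A x y a k)
include h

theorem comm' (v w : M) : v * w = w * v := mul_comm_of_sq h.sq v w

theorem inv' (m : M) : m⁻¹ = m := inv_eq_of_mul_eq_one_right (h.sq m)

theorem inv_b {b : X} (hb : b ∈ A) : b⁻¹ = b := inv_eq_of_mul_eq_one_right (h.el b hb)

theorem A_comm {b b' : X} (hb : b ∈ A) (hb' : b' ∈ A) : b * b' = b' * b := by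
  calc b * b' = (b * b')⁻¹ := (h.inv_b (A.mul_mem hb hb')).symm
    _ = b' * b := by rw [mul_inv_rev, h.inv_b hb, h.inv_b hb']

/-- `c * c = 1` -/
theorem cc : k * a * k⁻¹ * (k * a * k⁻¹) = 1 := by
  calc k * a * k⁻¹ * (k * a * k⁻¹) = k * (a * a) * k⁻¹ := by group
    _ = 1 := by rw [h.el a h.ha]; group

theorem not_pow (n : ℕ) : (a * (k * a * k⁻¹)) ^ 2 ^ n ≠ 1 := pow_two_ne h.odd h.ne n

theorem not_pow' (n : ℕ) : (k * a * k⁻¹ * a) ^ 2 ^ n ≠ 1 := by
  intro hn
  apply h.not_pow n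
  have h1 : a * (k * a * k⁻¹) = a * (k * a * k⁻¹ * a) * a⁻¹ := by group
  rw [h1, conj_pow, hn, mul_one, mul_inv_cancel]

/-- the commutator with `c` -/
theorem zc_ne [Finite X] {z : M} (hz : z = x ∨ z = y ∨ z = x * y) {m : M} (hm : (k * a * k⁻¹) • z = z * m)
    (hma : a • m = m) : False := by
  obtain ⟨n, hn⟩ := two_pow_of_fix (h.Az hz h.ha) h.cc (by
    rw [hm, smul_mul', hma, h.Tz hz (h.AT h.ha)])
  exact h.not_pow n hn

end Pr

variable (M) in
/-- `D = C_M(A) ∩ C_M(c)` -/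
def DD (A : Subgroup X) (c : X) : Subgroup M := cv M (A : Set X) ⊓ cv M {c}

theorem mem_DD {A : Subgroup X} {c : X} {m : M} : m ∈ DD M A c ↔ (∀ b ∈ A, b • m = m) ∧ c • m = m := by
  change m ∈ cv M (A : Set X) ∧ m ∈ cv M {c} ↔ _
  rw [mem_cv_singleton]
  rfl

/-- `[z, c]` for `z = ze p` -/
def ka (c : X) (x y : M) (p : V) : M := c • ze x y p * ze x y p

theorem ka_add (sq : ∀ m : M, m * m = 1) (c : X) (x y : M) (p q : V) :
    ka c x y (p + q) = ka c x y p * ka c x y q := by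
  unfold ka
  rw [ze_add sq]
  exact d_hom sq c _ _

theorem ka_zero (sq : ∀ m : M, m * m = 1) (c : X) (x y : M) : ka c x y 0 = 1 := by
  unfold ka
  rw [ze_zero, smul_one, sq]

/-- the representatives -/
def RR (c : X) (x y : M) (p : V × V) : M := ze x y p.1 * ka c x y p.2

theorem RR_add (sq : ∀ m : M, m * m = 1) (c : X) (x y : M) (p q : V × V) :
    RR c x y (p + q) = RR c x y p * RR c x y q := by
  have hc := mul_comm_of_sq sq
  unfold RR
  rw [Prod.fst_add, Prod.snd_add, ze_add sq, ka_add sq]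
  calc ze x y p.1 * ze x y q.1 * (ka c x y p.2 * ka c x y q.2)
      = ze x y p.1 * (ze x y q.1 * ka c x y p.2) * ka c x y q.2 := by group
    _ = ze x y p.1 * (ka c x y p.2 * ze x y q.1) * ka c x y q.2 := by rw [hc (ze x y q.1)]
    _ = _ := by group

theorem swap_eq (sq : ∀ m : M, m * m = 1) {u w u' w' : M} (e : u' * w' = u * w) : w' * w = u' * u := by
  have h1 : w' = u' * (u * w) := by rw [← e, ← mul_assoc, sq, one_mul]
  rw [h1, mul_assoc, mul_assoc, sq, mul_one]

theorem vadd_self (p : V) : p + p = 0 := by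
  revert p; decide

theorem eq_of_add {p q : V} (h : p + q = 0) : p = q := by
  revert p q; decide

namespace Pr

variable {T A : Subgroup X} {x y : M} {a k : X} (h : Pr T A x y a k)
include h

local notation "c" => (k * a * k⁻¹)
local notation "D" => (DD M A (k * a * k⁻¹))

theorem ze_D [Finite X] {p : V} (hp : ze x y p ∈ D) : p = 0 := by
  rcases ze_cases x y p with h1 | h1
  · exact h1
  · exact (h.zc_ne h1 (m := 1) (by rw [mul_one]; exact (mem_DD.1 hp).2) (smul_one a)).elim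

theorem ka_D [Finite X] {p : V} (hp : ka c x y p ∈ D) : p = 0 := by
  rcases ze_cases x y p with h1 | h1
  · exact h1
  · refine (h.zc_ne h1 (m := ka c x y p) ?_ ((mem_DD.1 hp).1 a h.ha)).elim
    unfold ka
    rw [h.comm' (c • ze x y p) (ze x y p), ← mul_assoc, h.sq, one_mul]

/-- `c` fixes `[z, c]` -/
theorem c_ka (p : V) : c • ka c x y p = ka c x y p := by
  unfold ka
  rw [smul_mul', ← mul_smul, h.cc, one_smul, h.comm']

theorem c_ze (p : V) : c • ze x y p = ze x y p * ka c x y p := by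
  unfold ka
  rw [h.comm' (c • ze x y p) (ze x y p), ← mul_assoc, h.sq, one_mul]

theorem b_ze {b : X} (hb : b ∈ A) (p : V) : b • ze x y p = ze x y p := h.zeC p b hb

theorem relIndex_le [Finite X] [Finite M] : (DD M A c).relIndex (cv M {c}) ≤ 4 := by
  have h1 : (DD M A c).relIndex (cv M {c}) = (cv M (A : Set X)).relIndex (cv M {c}) := inf_relIndex_right _ _
  rw [h1, ← h.idx, ← relIndex_top_right]
  refine relIndex_le_of_le_right le_top ?_
  rw [relIndex_top_right, h.idx]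
  omega

theorem relIndex_le' [Finite X] [Finite M] : (DD M A c).relIndex (cv M (A : Set X)) ≤ 4 := by
  have h1 : (DD M A c).relIndex (cv M (A : Set X)) = (cv M {c}).relIndex (cv M (A : Set X)) := by
    change (cv M (A : Set X) ⊓ cv M {c}).relIndex _ = _
    rw [inf_comm, inf_relIndex_right]
  rw [h1, ← h.index_cv_conj (k := k) h.ha h.ha1, ← relIndex_top_right]
  refine relIndex_le_of_le_right le_top ?_
  rw [relIndex_top_right, h.index_cv_conj (k := k) h.ha h.ha1]
  omega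

/-- `C_M(c) = ka(V) D` -/
theorem cov_c [Finite X] [Finite M] {m : M} (hm : c • m = m) : ∃ p, m * ka c x y p ∈ D :=
  cover h.sq h.relIndex_le (fun p => mem_cv_singleton.2 (h.c_ka p)) (ka_add h.sq c x y) (fun _ => h.ka_D)
    (mem_cv_singleton.2 hm)

/-- `C = ze(V) D` -/
theorem cov_C [Finite X] [Finite M] {m : M} (hm : ∀ b ∈ A, b • m = m) : ∃ p, m * ze x y p ∈ D :=
  cover h.sq h.relIndex_le' h.zeC (ze_add h.sq x y) (fun _ => h.ze_D) hm

theorem ka_C [Finite X] {p : V} (hp : ∀ b ∈ A, b • ka c x y p = ka c x y p) : p = 0 :=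
  h.ka_D (mem_DD.2 ⟨hp, h.c_ka p⟩)

/-- `M = ka(V) C` -/
theorem cov_M [Finite X] [Finite M] (m : M) : ∃ p : V × V, m * RR c x y p ∈ D := by
  have h0 : (cv M (A : Set X)).relIndex ⊤ ≤ 4 := by rw [relIndex_top_right, h.idx]
  obtain ⟨q, hq⟩ := cover h.sq h0 (f := ka c x y) (fun _ => mem_top _) (ka_add h.sq c x y) (fun p hp => h.ka_C hp) (mem_top m)
  obtain ⟨p, hp⟩ := h.cov_C hq
  refine ⟨(p, q), ?_⟩
  unfold RR
  rw [h.comm' (ze x y p), ← mul_assoc]
  exact hp

theorem RR_D [Finite X] {p : V × V} (hp : RR c x y p ∈ D) : p = 0 := by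
  have h1 : p.2 = 0 := by
    refine h.ka_C fun b hb => ?_
    have h2 := (mem_DD.1 hp).1 b hb
    unfold RR at h2
    rw [smul_mul', h.b_ze hb] at h2
    exact mul_left_cancel h2
  have h3 : p.1 = 0 := by
    refine h.ze_D ?_
    unfold RR at hp
    rw [h1, ka_zero h.sq, mul_one] at hp
    exact hp
  exact Prod.ext h3 h1

theorem RR_inj [Finite X] {p q : V × V} (hp : RR c x y p * RR c x y q ∈ D) : p = q := by
  rw [← RR_add h.sq] at hp
  have h1 := h.RR_D hp
  exact Prod.ext (eq_of_add (congrArg Prod.fst h1)) (eq_of_add (congrArg Prod.snd h1))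

/-- **(4), the other side**: if `b ∈ A` and `[w, b] ∈ D` for some `w ∈ C_M(c) - D` then `c * b` is a 2-element -/
theorem two_of_sing [Finite X] [Finite M] {b : X} (hb : b ∈ A) {q : V} (hq : q ≠ 0)
    (hd : b • ka c x y q * ka c x y q ∈ D) : ∃ n : ℕ, (c * b) ^ 2 ^ n = 1 := by
  -- `E = k A k⁻¹`, `C_M(E) = C_M(c)`
  have hbb := h.el b hb
  -- `w ∈ C_M(c)`: `k⁻¹ • w ∈ C`
  have hCE : ∀ m : M, c • m = m → ∀ b' ∈ A, b' • (k⁻¹ • m) = k⁻¹ • m := by
    intro m hm
    have h1 : a • (k⁻¹ • m) = k⁻¹ • m := by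
      rw [mul_smul, mul_smul] at hm
      exact (inv_smul_eq_iff.2 hm.symm).symm
    have h2 : k⁻¹ • m ∈ cv M (A : Set X) := by
      rw [← h.fix a h.ha h.ha1]
      exact mem_cv_singleton.2 h1
    exact h2
  -- `k • ze p ∈ D` only for `p = 0`
  have hkD : ∀ p, k • ze x y p ∈ D → p = 0 := by
    intro p hp
    rcases ze_cases x y p with h1 | h1
    · exact h1
    · exfalso
      have h2 : c ∈ o2 (MulAction.stabilizer X (k • ze x y p)) := conj_mem_o2 (h.Az h1 h.ha)
      obtain ⟨n, hn⟩ := two_pow_of_fix h2 (h.el a h.ha) (by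
        rw [(mem_DD.1 hp).1 a h.ha, (mem_DD.1 hp).2])
      exact h.not_pow' n hn
  have hkc : ∀ p, c • (k • ze x y p) = k • ze x y p := by
    intro p
    rw [mul_smul, mul_smul, inv_smul_smul, h.b_ze h.ha]
  obtain ⟨p, hp⟩ := cover h.sq h.relIndex_le (f := fun p => k • ze x y p)
    (fun p => mem_cv_singleton.2 (hkc p)) (fun p q => by
      rw [ze_add h.sq, smul_mul']) hkD (mem_cv_singleton.2 (h.c_ka q))
  have hp0 : p ≠ 0 := by
    rintro rfl
    rw [ze_zero, smul_one, mul_one] at hp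
    exact hq (h.ka_D hp)
  -- `b • (k • ze p) = (k • ze p) * d'`
  set w := k • ze x y p with hw
  have h3 : b • w * w ∈ D := by
    have h4 : b • (ka c x y q * w) = ka c x y q * w := (mem_DD.1 hp).1 b hb
    rw [smul_mul'] at h4
    rw [swap_eq h.sq h4]
    exact hd
  have h7 : c • (b • w) = b • w := by
    have h8 := (mem_DD.1 h3).2
    rw [smul_mul', hkc p] at h8
    exact mul_right_cancel h8
  have h9 : c ∈ o2 (MulAction.stabilizer X w) := by
    rcases ze_cases x y p with h1 | h1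
    · exact absurd h1 hp0
    · exact conj_mem_o2 (h.Az h1 h.ha)
  exact two_pow_of_fix h9 hbb h7

end Pr

end Cfsg.Agent.Omega.KL.Four
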