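import Cfsg.Agent.Omega.KL.Four.Base

/-!
# THEOREM FOUR (#21674): the situation `FIn` and step (1): `N_X(C_M(A))` fixes `x` and `y` (helper735)
-/

set_option autoImplicit false

namespace Cfsg.Agent.Omega.KL.Four

open Subgroup Cfsg.Agent.ClassTwoFusion.Quad Cfsg.Agent.MinSimple.MinParabolic
open Cfsg.Agent.Omega.ML.BS (mul_comm_of_sq d_hom d_eq_one smul_eq_d)
open Cfsg.Agent.Omega.ML.Ex.TIE (EE EE_sq smul_mem_EE mem_EE)
open Cfsg.Agent.ZN (o2)
open Cfsg.Agent.ZN.ChoiceSit (o2_le isPGroup_o2 le_o2 le_normalizer_o2)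

variable {X : Type*} [Group X] {M : Type*} [Group M] [MulDistribMulAction X M]

variable (X) in
/-- the stabiliser of the subgroup `C` of `M` -/
def sC (C : Subgroup M) : Subgroup X where
  carrier := {g | ∀ m, m ∈ C ↔ g • m ∈ C}
  one_mem' := fun m => by rw [one_smul]
  mul_mem' := by
    intro a b ha hb m
    rw [mul_smul, ← ha, ← hb]
  inv_mem' := by
    intro a ha m
    rw [ha (a⁻¹ • m), smul_inv_smul]

theorem mem_sC {C : Subgroup M} {g : X} : g ∈ sC X C ↔ ∀ m, m ∈ C ↔ g • m ∈ C := Iff.rfl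

/-- an element which maps `C` into `C` is in `sC` -/
theorem mem_sC_of_le [Finite M] {C : Subgroup M} {g : X} (h : ∀ m ∈ C, g • m ∈ C) : g ∈ sC X C := by
  have h1 : C.map (MulDistribMulAction.toMonoidHom M g) = C := by
    refine eq_of_le_of_card_ge ?_ ?_
    · rintro _ ⟨m, hm, rfl⟩
      exact h m hm
    · refine le_of_eq (Nat.card_congr (C.equivMapOfInjective _ ?_).toEquiv)
      exact MulAction.injective g
  intro m
  refine ⟨h m, fun hm => ?_⟩
  rw [← h1] at hm
  obtain ⟨m', hm', h2⟩ := hm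
  have h3 : m' = m := MulAction.injective g h2
  exact h3 ▸ hm'

/-- **the situation of THEOREM FOUR** -/
structure FIn (T A : Subgroup X) (x y : M) : Prop where
  sq : ∀ m : M, m * m = 1
  faith : ∀ h : X, (∀ m : M, h • m = m) → h = 1
  two : IsPGroup 2 T
  syl : ¬ 2 ∣ T.index
  x1 : x ≠ 1
  y1 : y ≠ 1
  xy : x ≠ y
  fx : ∀ m : M, (∀ t ∈ T, t • m = m) ↔ m = 1 ∨ m = x ∨ m = y ∨ m = x * y
  nx : ∀ g ∈ normalizer (T : Set X), g • x = x
  ny : ∀ g ∈ normalizer (T : Set X), g • y = y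
  uni : ∀ P : Subgroup X, IsMinPar T P → (∀ p ∈ P, p • x = x) ∨ (∀ p ∈ P, p • y = y)
  o2X : ∀ N : Subgroup X, N.Normal → IsPGroup 2 N → N = ⊥
  el : ∀ a ∈ A, a * a = 1
  AT : A ≤ T
  inv : ∀ t ∈ T, ∀ a ∈ A, t * a * t⁻¹ ∈ A
  four : Nat.card A = 4
  Ax : A ≤ o2 (MulAction.stabilizer X x)
  Ay : A ≤ o2 (MulAction.stabilizer X y)
  Axy : A ≤ o2 (MulAction.stabilizer X (x * y))
  fix : ∀ a ∈ A, a ≠ 1 → cv M {a} = cv M (A : Set X)
  idx : (cv M (A : Set X)).index = 4
  nox : ∀ E : Subgroup X, A ≤ E → E ≤ o2 (MulAction.stabilizer X x) → (∀ e ∈ E, e * e = 1) →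
    cv M (E : Set X) = cv M (A : Set X) → E = A
  noy : ∀ E : Subgroup X, A ≤ E → E ≤ o2 (MulAction.stabilizer X y) → (∀ e ∈ E, e * e = 1) →
    cv M (E : Set X) = cv M (A : Set X) → E = A

namespace FIn

variable {T A : Subgroup X} {x y : M} (h : FIn T A x y)
include h

theorem comm (v w : M) : v * w = w * v := mul_comm_of_sq h.sq v w

/-- the situation is symmetric in `x`, `y` -/
theorem swap : FIn T A y x where
  sq := h.sq
  faith := h.faith
  two := h.two
  syl := h.syl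
  x1 := h.y1
  y1 := h.x1
  xy := h.xy.symm
  fx := fun m => by
    rw [h.fx, h.comm y x]
    tauto
  nx := h.ny
  ny := h.nx
  uni := fun P hP => (h.uni P hP).symm
  o2X := h.o2X
  el := h.el
  AT := h.AT
  inv := h.inv
  four := h.four
  Ax := h.Ay
  Ay := h.Ax
  Axy := by rw [h.comm y x]; exact h.Axy
  fix := h.fix
  idx := h.idx
  nox := h.noy
  noy := h.nox

theorem Tx {t : X} (ht : t ∈ T) : t • x = x := (h.fx x).2 (by tauto) t ht

theorem Ty {t : X} (ht : t ∈ T) : t • y = y := (h.fx y).2 (by tauto) t ht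

theorem Tz {z : M} (hz : z = x ∨ z = y ∨ z = x * y) {t : X} (ht : t ∈ T) : t • z = z :=
  (h.fx z).2 (by tauto) t ht

theorem xy1 : x * y ≠ 1 := by
  intro h1
  have h2 : x = y⁻¹ := eq_inv_of_mul_eq_one_left h1
  rw [inv_eq_of_mul_eq_one_right (h.sq y)] at h2
  exact h.xy h2

theorem z1 {z : M} (hz : z = x ∨ z = y ∨ z = x * y) : z ≠ 1 := by
  rcases hz with rfl | rfl | rfl
  · exact h.x1
  · exact h.y1
  · exact h.xy1

/-- `A ≤ O₂(C_X(z))` for the three `T`-fixed vectors -/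
theorem Az [Finite X] {z : M} (hz : z = x ∨ z = y ∨ z = x * y) : A ≤ o2 (MulAction.stabilizer X z) := by
  rcases hz with rfl | rfl | rfl
  · exact h.Ax
  · exact h.Ay
  · exact h.Axy

omit h in
theorem AC {a : X} (ha : a ∈ A) {m : M} (hm : m ∈ cv M (A : Set X)) : a • m = m := hm a ha

theorem zC {z : M} (hz : z = x ∨ z = y ∨ z = x * y) : z ∈ cv M (A : Set X) :=
  fun _ ha => h.Tz hz (h.AT ha)

theorem A_conj {t : X} (ht : t ∈ T) {a : X} : t * a * t⁻¹ ∈ A ↔ a ∈ A := by
  constructor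
  · intro h1
    have h2 := h.inv t⁻¹ (inv_mem ht) _ h1
    have h3 : t⁻¹ * (t * a * t⁻¹) * t⁻¹⁻¹ = a := by group
    rwa [h3] at h2
  · exact h.inv t ht a

/-- `A ≤ E(C)` -/
theorem A_le_EE : A ≤ (EE (cv M (A : Set X)) : Subgroup X) := by
  intro a ha
  refine ⟨fun m hm => hm a ha, fun m => ?_⟩
  rcases eq_or_ne a 1 with rfl | ha1
  · rw [one_smul, mul_inv_cancel]
    exact one_mem _
  · rw [← h.fix a ha ha1, mem_cv_singleton, smul_mul', ← mul_smul, h.el a ha, one_smul, smul_inv',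
      inv_eq_of_mul_eq_one_right (h.sq (a • m)), inv_eq_of_mul_eq_one_right (h.sq m), h.comm]

theorem T_le_sC : T ≤ sC X (cv M (A : Set X)) := by
  intro t ht m
  constructor
  · intro hm a ha
    have h1 := hm (t⁻¹ * a * t) (by
      have h2 := h.inv t⁻¹ (inv_mem ht) a ha
      rwa [inv_inv] at h2)
    rw [mul_smul, mul_smul, inv_smul_eq_iff] at h1
    exact h1
  · intro hm a ha
    have h1 := hm (t * a * t⁻¹) (h.inv t ht a ha)
    rw [mul_smul, mul_smul, inv_smul_smul] at h1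
    exact MulAction.injective t h1

theorem exists_ne : ∃ a ∈ A, a ≠ 1 := by
  by_contra hcon
  push Not at hcon
  have h1 : A = ⊥ := (eq_bot_iff_forall _).2 hcon
  have h2 := h.four
  rw [h1, card_bot] at h2
  omega

/-- if `P ≤ N_X(C)` fixes `y` then `P` normalises `A` -/
theorem conj_mem_of [Finite X] {P : Subgroup X} (hPC : P ≤ sC X (cv M (A : Set X)))
    (hy : ∀ p ∈ P, p • y = y) {p a : X} (hp : p ∈ P) (ha : a ∈ A) : p * a * p⁻¹ ∈ A := by
  let E : Subgroup X := closure {e | ∃ p ∈ P, ∃ a ∈ A, e = p * a * p⁻¹}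
  have hAE : A ≤ E := fun a ha => subset_closure ⟨1, P.one_mem, a, ha, by group⟩
  have hE1 : E ≤ o2 (MulAction.stabilizer X y) := by
    rw [closure_le]
    rintro _ ⟨p, hp, a, ha, rfl⟩
    exact (mem_normalizer_iff.1 (le_normalizer_o2 _ (hy p hp : p ∈ MulAction.stabilizer X y)) a).1 (h.Ay ha)
  have hE2 : E ≤ (EE (cv M (A : Set X)) : Subgroup X) := by
    rw [closure_le]
    rintro _ ⟨p, hp, a, ha, rfl⟩
    exact smul_mem_EE (hPC hp) (h.A_le_EE ha)
  have hE3 : ∀ e ∈ E, e * e = 1 := fun e he => EE_sq h.sq h.faith (hE2 he)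
  have hE4 : cv M (E : Set X) = cv M (A : Set X) :=
    le_antisymm (cv_anti (SetLike.coe_subset_coe.2 hAE)) fun m hm e he => (hE2 he).1 m hm
  have hE := h.noy E hAE hE1 hE3 hE4
  rw [← hE]
  exact subset_closure ⟨p, hp, a, ha, rfl⟩

theorem xC : x ∈ cv M (A : Set X) := h.zC (Or.inl rfl)

theorem yC : y ∈ cv M (A : Set X) := h.zC (Or.inr (Or.inl rfl))

/-- `|C : C ∩ C_M(c)| ≤ 4` -/
theorem index_cv_conj [Finite X] [Finite M] {a k : X} (ha : a ∈ A) (ha1 : a ≠ 1) :
    (cv M ({k * a * k⁻¹} : Set X)).index = 4 := by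
  have h1 : cv M ({k * a * k⁻¹} : Set X) = (cv M ({a} : Set X)).map (MulDistribMulAction.toMulEquiv M k).toMonoidHom := by
    ext m
    rw [mem_cv_singleton]
    constructor
    · intro hm
      refine ⟨k⁻¹ • m, ?_, ?_⟩
      · change k⁻¹ • m ∈ cv M {a}
        rw [mem_cv_singleton]
        rw [mul_smul, mul_smul] at hm
        exact (inv_smul_eq_iff.2 hm.symm).symm
      · change k • k⁻¹ • m = m
        rw [smul_inv_smul]
    · rintro ⟨m, hm, rfl⟩
      change (k * a * k⁻¹) • k • m = k • m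
      have hm' : a • m = m := mem_cv_singleton.1 hm
      rw [mul_smul, mul_smul, inv_smul_smul, hm']
  have h2 : (cv M ({a} : Set X)).index = 4 := by rw [h.fix a ha ha1, h.idx]
  have h3 : Nat.card (cv M ({k * a * k⁻¹} : Set X)) = Nat.card (cv M ({a} : Set X)) := by
    rw [h1]
    exact (Nat.card_congr ((cv M ({a} : Set X)).equivMapOfInjective _
      (MulDistribMulAction.toMulEquiv M k).injective).toEquiv).symm
  have h4 := card_mul_index (cv M ({k * a * k⁻¹} : Set X))
  have h5 := card_mul_index (cv M ({a} : Set X))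
  rw [h3] at h4
  rw [← h4] at h5
  have h6 : 0 < Nat.card (cv M ({a} : Set X)) := Nat.card_pos
  have h7 := Nat.eq_of_mul_eq_mul_left h6 h5
  rw [← h7, h2]

end FIn

/-! ### coordinates: `V = F₂²` -/

/-- `F₂²` -/
abbrev V := ZMod 2 × ZMod 2

/-- `u ^ i` for `i ∈ F₂` -/
def pw (u : M) (i : ZMod 2) : M := if i = 0 then 1 else u

theorem pw_zero (u : M) : pw u 0 = 1 := if_pos rfl

theorem pw_one (u : M) : pw u 1 = u := if_neg one_ne_zero

theorem pw_add {u : M} (hu : u * u = 1) (i j : ZMod 2) : pw u (i + j) = pw u i * pw u j := by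
  have h : ∀ i : ZMod 2, i = 0 ∨ i = 1 := by decide
  have h2 : (1 : ZMod 2) + 1 = 0 := by decide
  rcases h i with rfl | rfl <;> rcases h j with rfl | rfl
  · rw [add_zero, pw_zero, one_mul]
  · rw [zero_add, pw_zero, one_mul]
  · rw [add_zero, pw_zero, mul_one]
  · rw [h2, pw_one, pw_zero, hu]

/-- the vector `x^p₁ y^p₂` -/
def ze (x y : M) (p : V) : M := pw x p.1 * pw y p.2

theorem ze_add (sq : ∀ m : M, m * m = 1) (x y : M) (p q : V) : ze x y (p + q) = ze x y p * ze x y q := by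
  have hc := mul_comm_of_sq sq
  unfold ze
  rw [Prod.fst_add, Prod.snd_add, pw_add (sq x), pw_add (sq y)]
  calc pw x p.1 * pw x q.1 * (pw y p.2 * pw y q.2) = pw x p.1 * (pw x q.1 * pw y p.2) * pw y q.2 := by group
    _ = pw x p.1 * (pw y p.2 * pw x q.1) * pw y q.2 := by rw [hc (pw x q.1)]
    _ = pw x p.1 * pw y p.2 * (pw x q.1 * pw y q.2) := by group

theorem ze_zero (x y : M) : ze x y 0 = 1 := by
  unfold ze
  rw [Prod.fst_zero, Prod.snd_zero, pw_zero, pw_zero, one_mul]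

theorem ze_cases (x y : M) (p : V) : p = 0 ∨ (ze x y p = x ∨ ze x y p = y ∨ ze x y p = x * y) := by
  have h : ∀ p : V, p = 0 ∨ p = (1, 0) ∨ p = (0, 1) ∨ p = (1, 1) := by decide
  rcases h p with rfl | rfl | rfl | rfl
  · exact Or.inl rfl
  · refine Or.inr (Or.inl ?_)
    unfold ze
    rw [pw_one, pw_zero, mul_one]
  · refine Or.inr (Or.inr (Or.inl ?_))
    unfold ze
    rw [pw_one, pw_zero, one_mul]
  · refine Or.inr (Or.inr (Or.inr ?_))
    unfold ze
    rw [pw_one, pw_one]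

theorem ze_x (x y : M) : ze x y (1, 0) = x := by
  unfold ze
  rw [pw_one, pw_zero, mul_one]

theorem ze_y (x y : M) : ze x y (0, 1) = y := by
  unfold ze
  rw [pw_one, pw_zero, one_mul]

theorem ze_xy (x y : M) : ze x y (1, 1) = x * y := by
  unfold ze
  rw [pw_one, pw_one]

/-- a homomorphism `V → W` which is injective modulo `D` is onto modulo `D` if `|W : D| ≤ 4` -/
theorem cover [Finite M] (sq : ∀ m : M, m * m = 1) {D W : Subgroup M} (hidx : D.relIndex W ≤ 4)
    {f : V → M} (fW : ∀ p, f p ∈ W) (fadd : ∀ p q, f (p + q) = f p * f q) (fD : ∀ p, f p ∈ D → p = 0) {m : M}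
    (hm : m ∈ W) : ∃ p, m * f p ∈ D := by
  classical
  let F : V → W ⧸ D.subgroupOf W := fun p => QuotientGroup.mk (⟨f p, fW p⟩ : W)
  have hinv : ∀ m : M, m⁻¹ = m := fun m => inv_eq_of_mul_eq_one_right (sq m)
  have hF : Function.Injective F := by
    intro p q hpq
    have h1 := QuotientGroup.eq.1 hpq
    rw [mem_subgroupOf] at h1
    change (f p)⁻¹ * f q ∈ D at h1
    rw [hinv, ← fadd] at h1
    have h2 := fD _ h1
    have h3 : ∀ p q : V, p + q = 0 → p = q := by decide
    exact h3 p q h2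
  have hfin : Finite (W ⧸ D.subgroupOf W) := inferInstance
  have hc : Nat.card (W ⧸ D.subgroupOf W) ≤ Nat.card V := by
    have h1 : Nat.card V = 4 := by
      rw [Nat.card_eq_fintype_card]; rfl
    rw [h1]
    exact hidx
  have hbij := hF.bijective_of_nat_card_le hc
  obtain ⟨p, hp⟩ := hbij.2 (QuotientGroup.mk (⟨m, hm⟩ : W))
  refine ⟨p, ?_⟩
  have h1 := QuotientGroup.eq.1 hp.symm
  rw [mem_subgroupOf] at h1
  change m⁻¹ * f p ∈ D at h1
  rwa [hinv] at h1

namespace FIn

variable {T A : Subgroup X} {x y : M} (h : FIn T A x y)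
include h

theorem zeC (p : V) : ze x y p ∈ cv M (A : Set X) := by
  rcases ze_cases x y p with rfl | hp
  · rw [ze_zero]; exact one_mem _
  · exact h.zC hp

/-- step (1), one half -/
theorem par [Finite X] [Finite M] {P : Subgroup X} (hTP : T ≤ P) (hPC : P ≤ sC X (cv M (A : Set X)))
    (hy : ∀ p ∈ P, p • y = y) : ∀ p ∈ P, p • x = x := by
  obtain ⟨a, ha, ha1⟩ := h.exists_ne
  obtain ⟨k, hodd, hne⟩ := exists_odd h.o2X ha1 (h.el a ha)
  set c := k * a * k⁻¹ with hc
  set C := cv M (A : Set X) with hC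
  have hcc : c * c = 1 := by
    rw [hc]
    calc k * a * k⁻¹ * (k * a * k⁻¹) = k * (a * a) * k⁻¹ := by group
      _ = 1 := by rw [h.el a ha]; group
  -- `c` moves `p • z`
  have hmove : ∀ p ∈ P, ∀ z, (z = x ∨ z = y ∨ z = x * y) → c • (p • z) ≠ p • z := by
    intro p hp z hz hfix
    have h1 : p⁻¹ * a * p ∈ A := by
      have h2 := h.conj_mem_of hPC hy (inv_mem hp) ha
      rwa [inv_inv] at h2
    have h2 : a ∈ o2 (MulAction.stabilizer X (p • z)) := by
      have h3 := conj_mem_o2 (h := p) (h.Az hz h1)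
      have h4 : p * (p⁻¹ * a * p) * p⁻¹ = a := by group
      rwa [h4] at h3
    have h5 : a • (p • z) = p • z := o2_le _ h2
    obtain ⟨n, hn⟩ := two_pow_of_fix h2 hcc (by rw [hfix, h5])
    exact pow_two_ne hodd hne n hn
  let D : Subgroup M := C ⊓ cv M {c}
  have hD : ∀ m, m ∈ D ↔ m ∈ C ∧ c • m = m := fun m => by
    change m ∈ C ∧ m ∈ cv M {c} ↔ _
    rw [mem_cv_singleton]
  have hidx : D.relIndex C ≤ 4 := by
    have h1 : D.relIndex C = (cv M {c}).relIndex C := by
      change (C ⊓ cv M {c}).relIndex C = _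
      rw [inf_comm, inf_relIndex_right]
    rw [h1, ← h.index_cv_conj (k := k) ha ha1]
    rw [← relIndex_top_right]
    refine relIndex_le_of_le_right le_top ?_
    rw [relIndex_top_right, h.index_cv_conj (k := k) ha ha1]
    omega
  have hzD : ∀ p, ze x y p ∈ D → p = 0 := by
    intro p hp
    rcases ze_cases x y p with h1 | h1
    · exact h1
    · have h2 := hmove 1 P.one_mem _ h1
      rw [one_smul] at h2
      exact absurd ((hD _).1 hp).2 h2
  have hcov : ∀ m ∈ C, ∃ p, m * ze x y p ∈ D := fun m hm =>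
    cover h.sq hidx h.zeC (ze_add h.sq x y) hzD hm
  -- the hyperplane `H₀ = D⟨y⟩`
  have hinv : ∀ m : M, m⁻¹ = m := fun m => inv_eq_of_mul_eq_one_right (h.sq m)
  let H₀ : Subgroup M :=
    { carrier := {m | m ∈ D ∨ m * y ∈ D}
      one_mem' := Or.inl (one_mem _)
      mul_mem' := by
        rintro u v (hu | hu) (hv | hv)
        · exact Or.inl (mul_mem hu hv)
        · exact Or.inr (by rw [mul_assoc]; exact mul_mem hu hv)
        · refine Or.inr ?_
          have e : u * v * y = u * y * v := by rw [mul_assoc, h.comm v y, mul_assoc]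
          rw [e]; exact mul_mem hu hv
        · refine Or.inl ?_
          have e : u * v = u * y * (v * y) := by
            calc u * v = u * v * (y * y) := by rw [h.sq, mul_one]
              _ = u * (v * y) * y := by group
              _ = u * (y * v) * y := by rw [h.comm v y]
              _ = u * y * (v * y) := by group
          rw [e]; exact mul_mem hu hv
      inv_mem' := by
        rintro u hu
        rw [hinv]; exact hu }
  have hH : ∀ m, m ∈ H₀ ↔ m ∈ D ∨ m * y ∈ D := fun _ => Iff.rfl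
  have hodd' : ¬ 2 ∣ T.relIndex P := fun h2 => h.syl (h2.trans (relIndex_dvd_index_of_le hTP))
  have hV : ∀ p : V, p = 0 ∨ p = (1, 0) ∨ p = (0, 1) ∨ p = (1, 1) := by decide
  have n1 : ((1, 0) : V) ≠ 0 := by decide
  have n2 : ((0, 1) : V) ≠ 0 := by decide
  have n3 : ((1, 1) : V) ≠ 0 := by decide
  have hpH : ∀ p ∈ P, (p • x) * x ∈ H₀ := by
    intro p hp
    have hpx : p • x ∈ C := (hPC hp x).1 h.xC
    obtain ⟨q, hq⟩ := hcov _ hpx
    rcases hV q with rfl | rfl | rfl | rfl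
    · rw [ze_zero, mul_one] at hq
      exact absurd ((hD _).1 hq).2 (hmove p hp x (Or.inl rfl))
    · rw [ze_x] at hq
      exact (hH _).2 (Or.inl hq)
    · rw [ze_y] at hq
      have h1 := hmove p hp (x * y) (Or.inr (Or.inr rfl))
      rw [smul_mul', hy p hp] at h1
      exact absurd ((hD _).1 hq).2 h1
    · rw [ze_xy, ← mul_assoc] at hq
      exact (hH _).2 (Or.inr hq)
  obtain ⟨x₀, hx₀, hx₀'⟩ := orbit_prod h.sq hodd' (fun t ht => h.Tx ht) hpH
  have hnx : x ∉ D := fun h1 => n1 (hzD _ (by rw [ze_x]; exact h1))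
  have hnxy : x * y ∉ D := fun h1 => n3 (hzD _ (by rw [ze_xy]; exact h1))
  rcases (h.fx x₀).1 (fun t ht => hx₀ t (hTP ht)) with rfl | rfl | rfl | rfl
  · rw [one_mul] at hx₀'
    rcases (hH _).1 hx₀' with h1 | h1
    · exact absurd h1 hnx
    · exact absurd h1 hnxy
  · exact hx₀
  · rcases (hH _).1 hx₀' with h1 | h1
    · rw [h.comm] at h1
      exact absurd h1 hnxy
    · have e : x₀ * x * x₀ = x := by rw [h.comm x₀ x, mul_assoc, h.sq, mul_one]
      rw [e] at h1
      exact absurd h1 hnx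
  · intro p hp
    have h1 := hx₀ p hp
    rw [smul_mul', hy p hp] at h1
    exact mul_right_cancel h1

/-- **step (1): `N_X(C_M(A))` fixes `x` and `y`** -/
theorem sC_fix [Finite X] [Finite M] {g : X} (hg : g ∈ sC X (cv M (A : Set X))) : g • x = x ∧ g • y = y := by
  have key : sC X (cv M (A : Set X)) ≤ MulAction.stabilizer X x ⊓ MulAction.stabilizer X y := by
    refine le_of_forall (S := T) h.T_le_sC ?_ ?_
    · intro g hg
      exact ⟨h.nx g hg.2, h.ny g hg.2⟩
    · intro P hP hPC p hp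
      rcases h.uni P hP with h1 | h1
      · exact ⟨h1 p hp, h.swap.par hP.le hPC h1 p hp⟩
      · exact ⟨h.par hP.le hPC h1 p hp, h1 p hp⟩
  exact key hg

end FIn

end Cfsg.Agent.Omega.KL.Four
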