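import Cfsg.Agent.Omega.KL.Def
import Cfsg.Agent.Omega.KL.Four.End
import Cfsg.Agent.Omega.ML.InOf

/-!
# THEOREM FOUR (#21674): `|A| ≠ 4` in 969's `Sys` and `KK` (ATOM form of #22199), if `A ⊴ T` (helper735)

* `fx_of` : `C_M(T) = {1, x, y, xy}` if `|A| = 4` and `A ≤ O₂(R)` for all `T ≤ R < X`;
* **`Sys.false_of_four`**, `KK.card_ne_four`.
-/

set_option autoImplicit false

namespace Cfsg.Agent.Omega.KL.Four

open Subgroup Cfsg Cfsg.Agent.ClassTwoFusion.Quad Cfsg.Agent.MinSimple.MinParabolic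
open Cfsg.Agent.Omega.KL.Def
open Cfsg.Agent.ZN (o2)

universe u v

section

variable {X : Type u} [Group X] {M : Type v} [Group M] [MulDistribMulAction X M]

/-- `O₂(X) = 1` for a faithful irreducible module -/
theorem o2X_of_irr [Finite X] [Finite M] (sq : ∀ m : M, m * m = 1)
    (faith : ∀ h : X, (∀ m : M, h • m = m) → h = 1)
    (irr : ∀ W : Subgroup M, (∀ h : X, ∀ w ∈ W, h • w ∈ W) → W = ⊥ ∨ W = ⊤) {x : M} (hx : x ≠ 1)
    {N : Subgroup X} (hN : N.Normal) (h2 : IsPGroup 2 N) : N = ⊥ := by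
  have h1 : ∀ h : X, ∀ w ∈ cv M (N : Set X), h • w ∈ cv M (N : Set X) := by
    intro h w hw n hn
    have h3 := hw (h⁻¹ * n * h) (by
      have h4 := hN.conj_mem n hn h⁻¹
      rwa [inv_inv] at h4)
    rw [mul_smul, mul_smul, inv_smul_eq_iff] at h3
    exact h3
  rcases irr _ h1 with h3 | h3
  · exfalso
    have hM : IsPGroup 2 M := fun m => ⟨1, by rw [pow_one, pow_two, sq]⟩
    have hfix : Nat.card (MulAction.fixedPoints N M) ≡ Nat.card M [MOD 2] := (h2.card_modEq_card_fixedPoints M).symm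
    have hf1 : MulAction.fixedPoints N M = {1} := by
      ext m
      rw [Set.mem_singleton_iff]
      constructor
      · intro hm
        have h4 : m ∈ cv M (N : Set X) := fun n hn => hm ⟨n, hn⟩
        rw [h3] at h4
        exact mem_bot.1 h4
      · rintro rfl n
        exact smul_one _
    rw [hf1, Nat.card_coe_set_eq, Set.ncard_singleton] at hfix
    obtain ⟨n, hn⟩ := hM.exists_card_eq
    rw [hn] at hfix
    rcases n with _ | n
    · rw [pow_zero] at hn
      have := (Nat.card_eq_one_iff_unique.1 hn).1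
      exact hx (Subsingleton.elim _ _)
    · rw [pow_succ, Nat.ModEq] at hfix
      omega
  · rw [eq_bot_iff]
    intro n hn
    refine mem_bot.2 (faith n fun m => ?_)
    have h4 : m ∈ cv M (N : Set X) := h3 ▸ mem_top m
    exact h4 n hn

theorem gen_of_irr (irr : ∀ W : Subgroup M, (∀ h : X, ∀ w ∈ W, h • w ∈ W) → W = ⊥ ∨ W = ⊤) {x : M} (hx : x ≠ 1) :
    closure (Set.range fun g : X => g • x) = ⊤ := by
  have hinv : ∀ h : X, ∀ w ∈ closure (Set.range fun g : X => g • x), h • w ∈ closure (Set.range fun g : X => g • x) := by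
    intro h w hw
    refine closure_induction (p := fun w _ => h • w ∈ closure (Set.range fun g : X => g • x)) ?_ ?_ ?_ ?_ hw
    · rintro _ ⟨g, rfl⟩
      exact subset_closure ⟨h * g, mul_smul _ _ _⟩
    · rw [smul_one]; exact one_mem _
    · intro a b _ _ ha hb
      rw [smul_mul']
      exact mul_mem ha hb
    · intro a _ ha
      rw [smul_inv']
      exact inv_mem ha
  rcases irr _ hinv with h | h
  · exfalso
    have h1 : x ∈ closure (Set.range fun g : X => g • x) := subset_closure ⟨1, one_smul _ _⟩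
    rw [h] at h1
    exact hx (mem_bot.1 h1)
  · exact h

variable {T A : Subgroup X} {V : Subgroup M} {x y : M}

theorem stab_ne_top (sq : ∀ m : M, m * m = 1)
    (irr : ∀ W : Subgroup M, (∀ h : X, ∀ w ∈ W, h • w ∈ W) → W = ⊥ ∨ W = ⊤) {z w : M} (hz : z ≠ 1) (hw : w ≠ 1)
    (hzw : z ≠ w) : MulAction.stabilizer X z ≠ ⊤ := by
  intro h1
  have h2 : ∀ g : X, ∀ m ∈ zpowers z, g • m ∈ zpowers z := by
    rintro g _ ⟨n, rfl⟩
    have h3 : g • z = z := (h1 ▸ mem_top g : g ∈ MulAction.stabilizer X z)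
    change g • z ^ n ∈ _
    rw [smul_zpow', h3]
    exact zpow_mem (mem_zpowers z) n
  rcases irr _ h2 with h3 | h3
  · exact hz (mem_bot.1 (h3 ▸ mem_zpowers z))
  · have h4 : w ∈ zpowers z := h3 ▸ mem_top w
    obtain ⟨n, hn⟩ := h4
    change z ^ n = w at hn
    rcases Int.even_or_odd n with ⟨k, rfl⟩ | ⟨k, rfl⟩
    · rw [← two_mul, zpow_mul, zpow_two, sq, one_zpow] at hn
      exact hw hn.symm
    · rw [zpow_add, zpow_mul, zpow_two, sq, one_zpow, one_mul, zpow_one] at hn
      exact hzw hn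

theorem index_conj [Finite M] {a k : X} {n : ℕ} (h2 : (cv M ({a} : Set X)).index = n) :
    (cv M ({k * a * k⁻¹} : Set X)).index = n := by
  have h1 : cv M ({k * a * k⁻¹} : Set X) = (cv M ({a} : Set X)).map (MulDistribMulAction.toMulEquiv M k).toMonoidHom := by
    ext m
    rw [mem_cv_singleton]
    constructor
    · intro hm
      refine ⟨k⁻¹ • m, ?_, ?_⟩
      · change k⁻¹ • m ∈ cv M {a}
        rw [mem_cv_singleton]
        rw [mul_smul, mul_smul] at hm
        exact (inv_smul_eq_iff.2 hm.symm).symm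
      · change k • k⁻¹ • m = m
        rw [smul_inv_smul]
    · rintro ⟨m, hm, rfl⟩
      change (k * a * k⁻¹) • k • m = k • m
      have hm' : a • m = m := mem_cv_singleton.1 hm
      rw [mul_smul, mul_smul, inv_smul_smul, hm']
  have h3 : Nat.card (cv M ({k * a * k⁻¹} : Set X)) = Nat.card (cv M ({a} : Set X)) := by
    rw [h1]
    exact (Nat.card_congr ((cv M ({a} : Set X)).equivMapOfInjective _
      (MulDistribMulAction.toMulEquiv M k).injective).toEquiv).symm
  have h4 := card_mul_index (cv M ({k * a * k⁻¹} : Set X))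
  have h5 := card_mul_index (cv M ({a} : Set X))
  rw [h3] at h4
  rw [← h4] at h5
  have h6 : 0 < Nat.card (cv M ({a} : Set X)) := Nat.card_pos
  have h7 := Nat.eq_of_mul_eq_mul_left h6 h5
  rw [← h7, h2]

/-- an exact atom of order 4: `C_M(a) = C_M(A)` is of index 4 for `a ∈ A#` -/
theorem _root_.Cfsg.Agent.Omega.KL.Def.Atom.fix_of_four [Finite X] [Finite M] (h : Atom M A) (h4 : Nat.card A = 4) {a : X} (ha : a ∈ A) (ha1 : a ≠ 1) :
    cv M ({a} : Set X) = cv M (A : Set X) := by
  have hidx : (cv M (A : Set X)).index = 4 := h.exact.trans h4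
  have h1 : cv M (A : Set X) ≤ cv M {a} := cv_anti (Set.singleton_subset_iff.2 ha)
  have h2 := relIndex_mul_index h1
  rw [hidx] at h2
  have hcard : Nat.card (zpowers a) = 2 := by
    rw [Nat.card_zpowers]
    exact orderOf_eq_prime (by rw [pow_two, h.el a ha]) ha1
  have hcv : cv M ((zpowers a : Subgroup X) : Set X) = cv M {a} := by
    refine le_antisymm (cv_anti (Set.singleton_subset_iff.2 (mem_zpowers a))) ?_
    intro m hm g hg
    have h3 : zpowers a ≤ MulAction.stabilizer X m := by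
      rw [zpowers_le]
      exact mem_cv_singleton.1 hm
    exact h3 hg
  have h3 : 2 < (cv M ({a} : Set X)).index := by
    have h4 := h.atom (zpowers a) (by rwa [zpowers_le]) (by rwa [Ne, zpowers_eq_bot]) (by
      intro h5
      rw [h5] at hcard
      omega)
    rwa [hcard, hcv] at h4
  have h6 : (cv M ({a} : Set X)).index ∣ 4 := ⟨_, by rw [mul_comm]; exact h2.symm⟩
  have h7 : (cv M ({a} : Set X)).index ≤ 4 := Nat.le_of_dvd (by norm_num) h6
  have h8 : (cv M (A : Set X)).relIndex (cv M {a}) = 1 := by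
    generalize (cv M ({a} : Set X)).index = n at *
    generalize (cv M (A : Set X)).relIndex (cv M {a}) = k at *
    interval_cases n <;> omega
  exact le_antisymm (relIndex_eq_one.1 h8) h1

/-- `C_M(T) = {1, x, y, xy}` -/
theorem fx_of [Finite X] [Finite M] (h : Atom M A) (h4 : Nat.card A = 4) (sq : ∀ m : M, m * m = 1)
    (faith : ∀ h : X, (∀ m : M, h • m = m) → h = 1)
    (irr : ∀ W : Subgroup M, (∀ h : X, ∀ w ∈ W, h • w ∈ W) → W = ⊥ ∨ W = ⊤) (AT : A ≤ T)
    (low : ∀ R : Subgroup X, T ≤ R → R ≠ ⊤ → A ≤ o2 R) (x1 : x ≠ 1) (y1 : y ≠ 1) (xy : x ≠ y)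
    (tx : ∀ t ∈ T, t • x = x) (ty : ∀ t ∈ T, t • y = y) (m : M) :
    (∀ t ∈ T, t • m = m) ↔ m = 1 ∨ m = x ∨ m = y ∨ m = x * y := by
  constructor
  · intro hm
    obtain ⟨a, ha, ha1⟩ : ∃ a ∈ A, a ≠ 1 := by
      by_contra hcon
      push Not at hcon
      have h1 : A = ⊥ := (eq_bot_iff_forall _).2 hcon
      rw [h1, card_bot] at h4
      omega
    obtain ⟨k, hodd, hne⟩ := exists_odd (fun N hN h2 => o2X_of_irr sq faith irr x1 hN h2) ha1 (h.el a ha)
    have hcc : k * a * k⁻¹ * (k * a * k⁻¹) = 1 := by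
      calc k * a * k⁻¹ * (k * a * k⁻¹) = k * (a * a) * k⁻¹ := by group
        _ = 1 := by rw [h.el a ha]; group
    have hbot : cv M (T : Set X) ⊓ cv M ({k * a * k⁻¹} : Set X) = ⊥ := by
      rw [eq_bot_iff]
      rintro z ⟨hz1, hz2⟩
      rw [mem_bot]
      by_contra hz
      have hst : MulAction.stabilizer X z ≠ ⊤ := by
        by_cases hzx : z = x
        · exact stab_ne_top sq irr hz y1 (hzx ▸ xy)
        · exact stab_ne_top sq irr hz x1 hzx
      have h3 : A ≤ o2 (MulAction.stabilizer X z) := low _ (fun t ht => hz1 t ht) hst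
      have h5 : (k * a * k⁻¹) • z = z := mem_cv_singleton.1 hz2
      obtain ⟨n, hn⟩ := two_pow_of_fix (h3 ha) hcc (by rw [h5]; exact hz1 a (AT ha))
      exact pow_two_ne hodd hne n hn
    have hc : Nat.card (cv M (T : Set X)) ≤ 4 := by
      have h5 : (cv M ({k * a * k⁻¹} : Set X)).index = 4 := by
        refine index_conj ?_
        rw [h.fix_of_four h4 ha ha1, h.exact, h4]
      have h6 : (cv M ({k * a * k⁻¹} : Set X)).relIndex (cv M (T : Set X)) = Nat.card (cv M (T : Set X)) := by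
        rw [← inf_relIndex_right, inf_comm, hbot, relIndex_bot_left]
      rw [← h6, ← h5, ← relIndex_top_right]
      refine relIndex_le_of_le_right le_top ?_
      rw [relIndex_top_right, h5]
      omega
    have hxy1 : x * y ≠ 1 := by
      intro h1
      have h2 : x = y⁻¹ := eq_inv_of_mul_eq_one_left h1
      rw [inv_eq_of_mul_eq_one_right (sq y)] at h2
      exact xy h2
    have hxyx : x * y ≠ x := fun h1 => y1 (mul_eq_left.1 h1)
    have hxyy : x * y ≠ y := fun h1 => x1 (mul_eq_right.1 h1)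
    have hsub : ({1, x, y, x * y} : Set M) ⊆ (cv M (T : Set X) : Set M) := by
      rintro z (rfl | rfl | rfl | rfl)
      · exact one_mem _
      · exact fun t ht => tx t ht
      · exact fun t ht => ty t ht
      · exact mul_mem (fun t ht => tx t ht : x ∈ cv M (T : Set X)) (fun t ht => ty t ht : y ∈ cv M (T : Set X))
    have hn : ({1, x, y, x * y} : Set M).ncard = 4 := by
      rw [Set.ncard_insert_of_notMem, Set.ncard_insert_of_notMem, Set.ncard_insert_of_notMem, Set.ncard_singleton]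
      · simpa using hxyy.symm
      · simp only [Set.mem_insert_iff, Set.mem_singleton_iff, not_or]
        exact ⟨xy, hxyx.symm⟩
      · simp only [Set.mem_insert_iff, Set.mem_singleton_iff, not_or]
        exact ⟨x1.symm, y1.symm, hxy1.symm⟩
    have heq := Set.eq_of_subset_of_ncard_le hsub (by
      rw [hn, ← Nat.card_coe_set_eq]
      exact hc) (Set.toFinite _)
    have h7 : m ∈ (cv M (T : Set X) : Set M) := fun t ht => hm t ht
    rw [← heq] at h7
    simpa using h7
  · rintro (rfl | rfl | rfl | rfl) t ht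
    · exact smul_one t
    · exact tx t ht
    · exact ty t ht
    · rw [smul_mul', tx t ht, ty t ht]

end

/-- **`|A| ≠ 4` in `Sys` if `A ⊴ T`** -/
theorem _root_.Cfsg.Agent.Omega.KL.Def.Sys.false_of_four (hML : ML.Final.MLK.{u, v}) {X : Type u} [Group X] [Finite X]
    {M : Type v} [Group M] [Finite M] [MulDistribMulAction X M] {T A : Subgroup X} {V : Subgroup M} {x y : M}
    (h : Sys T A V x y) (inv : ∀ t ∈ T, ∀ a ∈ A, t * a * t⁻¹ ∈ A) (h4 : Nat.card A = 4) : False := by
  have hidx : (cv M (A : Set X)).index = 4 := h.exact.trans h4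
  have tx : ∀ t ∈ T, t • x = x := fun t ht => h.toTwo.tx ht
  have ty : ∀ t ∈ T, t • y = y := fun t ht => h.toTwo.ty ht
  have hfx := fx_of h.toAtom h4 h.sq h.faith h.irr h.AT h.low h.x1 h.y1 h.xy tx ty
  have hxy1 : x * y ≠ 1 := by
    intro h1
    have h2 : x = y⁻¹ := eq_inv_of_mul_eq_one_left h1
    rw [inv_eq_of_mul_eq_one_right (h.sq y)] at h2
    exact h.xy h2
  have hxyx : x * y ≠ x := fun h1 => h.y1 (mul_eq_left.1 h1)
  have hlow : ∀ z : M, (∀ t ∈ T, t • z = z) → MulAction.stabilizer X z ≠ ⊤ → A ≤ o2 (MulAction.stabilizer X z) :=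
    fun z hz hst => h.low _ (fun t ht => hz t ht) hst
  have hAx := hlow x tx (stab_ne_top h.sq h.irr h.x1 h.y1 h.xy)
  have hAy := hlow y ty (stab_ne_top h.sq h.irr h.y1 h.x1 h.xy.symm)
  have hAxy := hlow (x * y) ((hfx (x * y)).2 (by tauto)) (stab_ne_top h.sq h.irr hxy1 h.x1 hxyx)
  have hMLS := hML X M h.KH h.sq
  have hno : ∀ z : M, z ≠ 1 → (∀ t ∈ T, t • z = z) → ∀ E : Subgroup X, A ≤ E →
      E ≤ o2 (MulAction.stabilizer X z) → (∀ e ∈ E, e * e = 1) → cv M (E : Set X) = cv M (A : Set X) → E = A := by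
    intro z hz hTz E hAE hE hE2 hcv
    have h1 := ML.MinFrame.card_le hMLS h.faith h.two h.syl (fun t ht => hTz t ht) (gen_of_irr h.irr hz) hE hE2
    rw [hcv, hidx, ← h4] at h1
    exact (eq_of_le_of_card_ge hAE h1).symm
  refine FIn.false (T := T) (A := A) (x := x) (y := y)
    { sq := h.sq, faith := h.faith, two := h.two, syl := h.syl, x1 := h.x1, y1 := h.y1, xy := h.xy, fx := hfx,
      nx := h.nx, ny := h.ny, uni := ?_,
      o2X := fun N hN h2 => o2X_of_irr h.sq h.faith h.irr h.x1 hN h2,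
      el := h.el, AT := h.AT, inv := inv, four := h4, Ax := hAx, Ay := hAy, Axy := hAxy,
      fix := fun a ha ha1 => h.toAtom.fix_of_four h4 ha ha1, idx := hidx,
      nox := hno x h.x1 tx, noy := hno y h.y1 ty }
  intro P hP
  by_cases h1 : ∃ p ∈ P, p • x ≠ x
  · exact Or.inr (h.uni P hP h1).2
  · push Not at h1
    exact Or.inl h1

/-- **`|A| ≠ 4` in `KK` if `A ⊴ T`** -/
theorem _root_.Cfsg.Agent.Omega.KL.Def.KK.card_ne_four (hML : ML.Final.MLK.{u, v}) {X : Type u} [Group X] [Finite X]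
    {M : Type v} [Group M] [Finite M] [MulDistribMulAction X M] {K T A : Subgroup X} {V : Subgroup M} {x y : M}
    (h : KK K T A V x y) (inv : ∀ t ∈ T, ∀ a ∈ A, t * a * t⁻¹ ∈ A) : Nat.card A ≠ 4 :=
  h.toSys.false_of_four hML inv

end Cfsg.Agent.Omega.KL.Four
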